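import Groth.Agent.Localalg.TopNonvan
import Groth.Agent.Localalg.LichtAsm
import Groth.Agent.Variety.K427.ComplConn
import Groth.Agent.Ega1.ReducedSub
import Groth.Agent.S10831

/-!
# Nonvanishing of coherent cohomology of a proper scheme in a degree at least a given bound for the
dimension
-/

set_option autoImplicit false
universe u
open CategoryTheory CategoryTheory.Limits AlgebraicGeometry TopologicalSpace

namespace Groth.Agent.FunFld.K522.NonVan

/-- A space of dimension at least `N` has an irreducible component of dimension at least `N`. -/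
theorem exists_component {X : Type u} [TopologicalSpace X] (N : ℕ)
    (hN : (N : WithBot ℕ∞) ≤ topologicalKrullDim X) :
    ∃ Y ∈ irreducibleComponents X, (N : WithBot ℕ∞) ≤ topologicalKrullDim Y := by
  by_contra! h
  cases N with
  | zero =>
    have hne : Nonempty X := by
      by_contra hX
      rw [not_nonempty_iff] at hX
      have h1 : topologicalKrullDim X = ⊥ := by
        rw [S10831.result X]
        refine le_bot_iff.mp (iSup₂_le fun Y hY => ?_)
        obtain ⟨y, hy⟩ := hY.1.nonempty
        exact (hX.false y).elim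
      rw [h1] at hN
      exact absurd hN (by simp)
    obtain ⟨x⟩ := hne
    have h1 := h (irreducibleComponent x) (irreducibleComponent_mem_irreducibleComponents x)
    have : Nonempty (irreducibleComponent x) := ⟨⟨x, mem_irreducibleComponent⟩⟩
    exact absurd h1 (not_lt.mpr CohqA.TopVan.topologicalKrullDim_nonneg)
  | succ n =>
    have h2 : topologicalKrullDim X ≤ (n : WithBot ℕ∞) := by
      rw [S10831.result X]
      exact iSup₂_le fun Y hY => CohqA.TopVan.le_of_lt_succ (h Y hY)
    have h3 : ((n + 1 : ℕ) : WithBot ℕ∞) ≤ (n : WithBot ℕ∞) := hN.trans h2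
    have h4 : n + 1 ≤ n := by exact_mod_cast h3
    omega

/-- The reduced closed subscheme on an irreducible closed subset is integral. -/
theorem isIntegral_subscheme {X : Scheme.{u}} (Z : Closeds X) (h : IsIrreducible (Z : Set X)) :
    IsIntegral (Scheme.IdealSheafData.vanishingIdeal Z).subscheme := by
  have h0 := Ega1.ReducedSub.isReduced_subscheme_vanishingIdeal Z
  have h1 : IsIrreducible (Set.range (Scheme.IdealSheafData.vanishingIdeal Z).subschemeι) := by
    rw [Scheme.IdealSheafData.range_subschemeι, Scheme.IdealSheafData.coe_support_vanishingIdeal]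
    exact h
  have h2 := Subtype.irreducibleSpace h1
  let e := (Scheme.IdealSheafData.vanishingIdeal Z).subschemeι.isEmbedding.toHomeomorph
  have : Nonempty (Scheme.IdealSheafData.vanishingIdeal Z).subscheme :=
    ⟨e.symm ⟨_, h1.nonempty.some_mem⟩⟩
  have h3 : IrreducibleSpace (Scheme.IdealSheafData.vanishingIdeal Z).subscheme :=
    e.isOpenEmbedding.irreducibleSpace
  exact isIntegral_of_irreducibleSpace_of_isReduced _

/-- **Nonvanishing.** A proper scheme of dimension at least `N` over a field has nonzero coherent
cohomology in some degree at least `N`. -/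
theorem exists_nontrivial {k : Type u} [Field k] {T : Scheme.{u}}
    (q : T ⟶ Spec (CommRingCat.of k)) [IsProper q] (N : ℕ)
    (hN : (N : WithBot ℕ∞) ≤ topologicalKrullDim T) :
    ∃ F : T.Modules, Coh.IsCoh F ∧ ∃ j : ℕ, N ≤ j ∧ ¬ Subsingleton (Coh.HH T F j) := by
  obtain ⟨Y, hY, hdim⟩ := exists_component N hN
  have hYc : IsClosed Y := isClosed_of_mem_irreducibleComponents Y hY
  let I : T.IdealSheafData := Scheme.IdealSheafData.vanishingIdeal ⟨Y, hYc⟩
  let Z := I.subscheme
  let i : Z ⟶ T := I.subschemeι
  have hint : IsIntegral Z := isIntegral_subscheme ⟨Y, hYc⟩ hY.1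
  have hr : Set.range i = Y := by
    rw [show Set.range i = (I.support : Set T) from I.range_subschemeι,
      Scheme.IdealSheafData.coe_support_vanishingIdeal]
    rfl
  have hdim' : (N : WithBot ℕ∞) ≤ topologicalKrullDim Z := by
    rw [(i.isEmbedding.toHomeomorph).isHomeomorph.topologicalKrullDim_eq, hr]
    exact hdim
  letI : Z.Over (Spec (CommRingCat.of k)) := ⟨i ≫ q⟩
  have : LocallyOfFiniteType (Z ↘ Spec (CommRingCat.of k)) :=
    inferInstanceAs (LocallyOfFiniteType (i ≫ q))
  obtain ⟨d, hd⟩ := K427.ComplConn.exists_dim k Z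
  obtain ⟨F, hF, hnt⟩ := Localalg.TopNonvan.exists_nontrivial d k Z (i ≫ q) hd
  have hT : IsNoetherian T := Localalg.LichtAsm.isNoetherian q
  refine ⟨(Coh.push i).obj F, ⟨CohqA.AffPush.isQCoh_push i F hF.1,
    CohqA.AffPush.isFT_push i F hF.1 hF.2⟩, d, ?_, ?_⟩
  · rw [hd] at hdim'
    exact_mod_cast hdim'
  · obtain ⟨e⟩ := Localalg.LichtAsm.nonempty_HH_push i F d
    intro h
    exact not_subsingleton _ e.symm.toEquiv.subsingleton

end Groth.Agent.FunFld.K522.NonVan
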